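import Mathlib
import Cfsg.Agent.Lib.Chars.Misc
import Cfsg.Agent.Lib.Extendible

/-!
# Determinant parity for characters of degree `p - 1`
-/

set_option autoImplicit false

namespace CfsgLib.DetParity

open Cfsg CfsgLib.Chars Module
open scoped ComplexConjugate BigOperators

universe u v

variable {G : Type u} [Group G]

/-- Eigenvalue list with determinant. -/
theorem exists_list_det [Finite G] {n : ℕ} (ρ : Representation ℂ G (Fin n → ℂ)) (g : G) :
    ∃ l : List ℂ, (∀ μ ∈ l, μ ^ orderOf g = 1) ∧
      (∀ k : ℕ, ρ.character (g ^ k) = (l.map (fun μ => μ ^ k)).sum) ∧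
      LinearMap.det (ρ g) = l.prod := by
  let C := Subgroup.zpowers g
  let x : C := ⟨g, Subgroup.mem_zpowers g⟩
  have hox : orderOf x = orderOf g := by
    rw [← orderOf_injective C.subtype C.subtype_injective x]
    rfl
  have key : ∃ l : List ℂ, (∀ μ ∈ l, μ ^ orderOf g = 1) ∧
      (∀ k : ℕ, Representation.character (ρ.comp C.subtype) (x ^ k) = (l.map (fun μ => μ ^ k)).sum) ∧
      LinearMap.det ((ρ.comp C.subtype : Representation ℂ C (Fin n → ℂ)) x) = l.prod := by
    refine rep_induction (motive := fun V _ _ _ σ =>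
      ∃ l : List ℂ, (∀ μ ∈ l, μ ^ orderOf g = 1) ∧
      (∀ k : ℕ, σ.character (x ^ k) = (l.map (fun μ => μ ^ k)).sum) ∧
      LinearMap.det (σ x) = l.prod) ?_ ?_ ?_ _ (ρ.comp C.subtype)
    · intro V _ _ _ σ hs
      refine ⟨[], by simp, fun k => ?_, ?_⟩
      · rw [Representation.character, Subsingleton.elim (σ _) 0]
        simp
      · rw [Subsingleton.elim (σ x) 1]
        simp
    · intro V _ _ _ σ hσ
      haveI := hσ
      haveI : IsMulCommutative C := inferInstance
      have h1 : finrank ℂ V = 1 := Representation.IsIrreducible.finrank_eq_one_of_isMulCommutative σ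
      obtain ⟨c, hc⟩ : ∃ c : ℂ, σ x = c • (1 : Module.End ℂ V) := by
        obtain ⟨v, hv, hv'⟩ := finrank_eq_one_iff'.mp h1
        obtain ⟨c, hc⟩ := hv' (σ x v)
        refine ⟨c, LinearMap.ext fun w => ?_⟩
        obtain ⟨a, rfl⟩ := hv' w
        rw [map_smul, ← hc]
        simp [smul_smul, mul_comm a c]
      have htr : ∀ k : ℕ, σ.character (x ^ k) = c ^ k := fun k => by
        rw [Representation.character, map_pow, hc, smul_pow, one_pow, map_smul,
          LinearMap.trace_one, h1]
        simp
      refine ⟨[c], ?_, fun k => by simp [htr k], ?_⟩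
      · intro μ hμ
        rw [List.mem_singleton] at hμ
        subst hμ
        rw [← htr, ← hox, pow_orderOf_eq_one, Representation.char_one, h1]
        simp
      · rw [hc, LinearMap.det_smul, h1]
        simp
    · intro V _ _ _ σ W W' hW hW' hc h₁ h₂
      obtain ⟨l₁, hl₁, h₁, d₁⟩ := h₁
      obtain ⟨l₂, hl₂, h₂, d₂⟩ := h₂
      refine ⟨l₁ ++ l₂, fun μ hμ => ?_, fun k => ?_, ?_⟩
      · rcases List.mem_append.mp hμ with h | h
        · exact hl₁ μ h
        · exact hl₂ μ h
      · rw [character_eq_add_of_isCompl σ W W' hW hW' hc, Pi.add_apply, h₁, h₂, List.map_append,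
          List.sum_append]
      · have e : σ x = (Submodule.prodEquivOfIsCompl W W' hc).conj
            ((subRep σ W hW x).prodMap (subRep σ W' hW' x)) := by
          apply LinearMap.ext
          intro v
          obtain ⟨⟨a, b⟩, rfl⟩ := (Submodule.prodEquivOfIsCompl W W' hc).surjective v
          rw [LinearEquiv.conj_apply, LinearMap.comp_apply, LinearMap.comp_apply]
          rw [LinearEquiv.coe_coe, LinearEquiv.coe_coe, LinearEquiv.symm_apply_apply]
          simp only [LinearMap.prodMap_apply, Submodule.coe_prodEquivOfIsCompl', map_add, subRep_apply]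
        rw [e, LinearEquiv.conj_apply, LinearMap.comp_assoc, LinearMap.det_conj, LinearMap.det_prodMap,
          d₁, d₂, List.prod_append]
  obtain ⟨l, hl, h, hd⟩ := key
  refine ⟨l, hl, fun k => ?_, hd⟩
  rw [← h k]
  simp [Representation.character, x]

theorem geom_root {μ : ℂ} {q : ℕ} (h : μ ^ q = 1) :
    ∑ k ∈ Finset.range q, μ ^ k = if μ = 1 then (q : ℂ) else 0 := by
  split_ifs with h1
  · simp [h1]
  · rw [geom_sum_eq h1, h, sub_self, zero_div]

theorem sum_list_root {l : List ℂ} {q : ℕ} {ν : ℂ} (hν : ν ^ q = 1) (hν0 : ν ≠ 0)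
    (hl : ∀ μ ∈ l, μ ^ q = 1) :
    ∑ k ∈ Finset.range q, (ν⁻¹) ^ k * (l.map (fun μ => μ ^ k)).sum = (q * l.count ν : ℂ) := by
  induction l with
  | nil => simp
  | cons a t ih =>
    have := ih fun μ hμ => hl μ (by simp [hμ])
    simp only [List.map_cons, List.sum_cons, mul_add, Finset.sum_add_distrib, this]
    simp only [← mul_pow]
    rw [geom_root (by rw [mul_pow, inv_pow, hν, inv_one, one_mul, hl a (by simp)]), List.count_cons]
    by_cases h : a = ν
    · subst h
      simp [inv_mul_cancel₀ hν0, mul_add, add_comm]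
    · have h' : ν⁻¹ * a ≠ 1 := by
        intro h'
        apply h
        field_simp at h'
        exact h'
      simp [h, h']

/-- An element acting with regular character has determinant `-1` in the odd multiplicity case. -/
theorem det_eq_neg_one [Finite G] {d : ℕ} (ρ : Representation ℂ G (Fin d → ℂ)) (n : G) {q : ℕ}
    (hq : orderOf n = q) (hqe : Even q) (hqd : q ∣ d) (hodd : Odd (d / q))
    (htr : ∀ k, 0 < k → k < q → ρ.character (n ^ k) = 0) :
    LinearMap.det (ρ n) = -1 := by
  classical
  obtain ⟨l, hl, h, hd⟩ := exists_list_det ρ n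
  rw [hq] at hl
  have hq0 : 0 < q := hq ▸ orderOf_pos n
  have hcount : ∀ ν : ℂ, ν ^ q = 1 → l.count ν = d / q := by
    intro ν hν
    have hν0 : ν ≠ 0 := by
      rintro rfl
      simp [zero_pow hq0.ne'] at hν
    have h1 := sum_list_root hν hν0 hl
    rw [Finset.sum_eq_single 0 (fun k hk hk0 => by
      rw [← h k, htr k (Nat.pos_of_ne_zero hk0) (Finset.mem_range.mp hk), mul_zero])
      (fun hh => absurd (Finset.mem_range.mpr hq0) hh)] at h1
    rw [← h 0, pow_zero, pow_zero, one_mul, Representation.char_one, Module.finrank_fin_fun] at h1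
    have h2 : d = q * l.count ν := by exact_mod_cast h1
    rw [h2, Nat.mul_div_cancel_left _ hq0]
  obtain ⟨ζ, hζ⟩ : ∃ ζ : ℂ, IsPrimitiveRoot ζ q := ⟨_, Complex.isPrimitiveRoot_exp q hq0.ne'⟩
  have hprod : l.prod = ∏ k ∈ Finset.range q, (ζ ^ k) ^ (d / q) := by
    have e : l.toFinset ⊆ (Finset.range q).image (fun k => ζ ^ k) := fun μ hμ => by
      obtain ⟨i, hi, rfl⟩ := haveI : NeZero q := ⟨hq0.ne'⟩
        hζ.eq_pow_of_pow_eq_one (hl μ (List.mem_toFinset.mp hμ))
      exact Finset.mem_image.mpr ⟨i, Finset.mem_range.mpr hi, rfl⟩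
    rw [Finset.prod_list_count_of_subset l _ e, Finset.prod_image]
    · refine Finset.prod_congr rfl fun k _ => ?_
      rw [hcount (ζ ^ k) (by rw [← pow_mul, mul_comm, pow_mul, hζ.pow_eq_one, one_pow])]
    · intro a ha b hb hab
      exact hζ.pow_inj (Finset.mem_range.mp ha) (Finset.mem_range.mp hb) hab
  rw [hd, hprod, Finset.prod_pow, Finset.prod_pow_eq_pow_sum, Finset.sum_range_id]
  obtain ⟨r, hr⟩ := hqe
  have hr0 : 0 < r := by omega
  have e1 : q * (q - 1) / 2 = r * (q - 1) := by
    rw [hr, show (r + r) * (r + r - 1) = 2 * (r * (r + r - 1)) by ring, Nat.mul_div_cancel_left _ two_pos]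
  have e2 : ζ ^ r = -1 := by
    have h2 := hζ.pow hq0 (a := r) (b := 2) (by omega)
    exact IsPrimitiveRoot.eq_neg_one_of_two_right h2
  rw [e1, pow_mul, e2]
  have o1 : Odd (q - 1) := ⟨r - 1, by omega⟩
  rw [o1.neg_one_pow, hodd.neg_one_pow]

/-- Sums of characters over subgroups are multiples of the order; vanishing kills the operator sum. -/
theorem sum_subgroup [Finite G] {d : ℕ} (ρ : Representation ℂ G (Fin d → ℂ)) (K : Subgroup G) [Fintype K] :
    ∃ A : ℕ, ∑ y : K, ρ.character (y : G) = (Nat.card K * A : ℂ) ∧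
      (A = 0 → ∀ v, ∑ y : K, ρ (y : G) v = 0) := by
  let σ : Representation ℂ K (Fin d → ℂ) := ρ.comp K.subtype
  haveI : Invertible (Nat.card K : ℂ) := invertibleOfNonzero (natCast_card_ne_zero K)
  refine ⟨finrank ℂ σ.invariants, ?_, fun h0 v => ?_⟩
  · rw [← Representation.card_inv_mul_sum_char_eq_finrank, ← mul_assoc,
      mul_inv_cancel₀ (natCast_card_ne_zero K), one_mul]
    rfl
  · have hb : σ.invariants = ⊥ := Submodule.finrank_eq_zero.mp h0
    have hm : (∑ y : K, ρ (y : G) v) ∈ σ.invariants := by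
      rw [Representation.mem_invariants]
      intro g
      show ρ (g : G) _ = _
      rw [map_sum]
      refine (Finset.sum_congr rfl fun y _ => ?_).trans
        (Equiv.sum_comp (Equiv.mulLeft g) (fun y : K => ρ (y : G) v))
      simp [← Module.End.mul_apply]
    rwa [hb, Submodule.mem_bot] at hm

/-- Lower bound for the second moment of a character over a cyclic group. -/
theorem second_moment [Finite G] {χ : G → ℂ} (hχ : IsCharacter G χ) (x : G) {d : ℕ} (hd : χ 1 = d) :
    ∃ a M : ℕ, a ≤ d ∧ a * a + (d - a) ≤ M ∧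
      ∑ k ∈ Finset.range (orderOf x), χ (x ^ k) = (orderOf x * a : ℂ) ∧
      ∑ k ∈ Finset.range (orderOf x), χ (x ^ k) * conj (χ (x ^ k)) = (orderOf x * M : ℂ) := by
  classical
  obtain ⟨l, hl, h⟩ := exists_list_eigen hχ x
  have hlen : l.length = d := by
    have := eigen_length h
    rw [hd] at this
    exact_mod_cast this.symm
  subst hlen
  let f : Fin l.length → ℂ := fun i => l.get i
  have hf : ∀ i, f i ^ orderOf x = 1 := fun i => hl _ (List.get_mem l i)
  have hs : ∀ k, χ (x ^ k) = ∑ i, f i ^ k := fun k => by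
    rw [h k, ← Fin.sum_univ_fun_getElem]
    rfl
  let A := Finset.univ.filter (fun i => f i = 1)
  let E := (Finset.univ ×ˢ Finset.univ).filter (fun ij : Fin l.length × Fin l.length => f ij.1 = f ij.2)
  refine ⟨A.card, E.card, ?_, ?_, ?_, ?_⟩
  · exact (Finset.card_le_univ A).trans_eq (Fintype.card_fin _)
  · have hsub : (A ×ˢ A) ∪ ((Finset.univ \ A).image (fun i => (i, i))) ⊆ E := by
      intro ij hij
      simp only [Finset.mem_union, Finset.mem_product, Finset.mem_image, E, Finset.mem_filter] at hij ⊢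
      rcases hij with ⟨h1, h2⟩ | ⟨i, _, rfl⟩
      · simp only [A, Finset.mem_filter] at h1 h2
        simp [h1.2, h2.2]
      · simp
    refine le_trans ?_ (Finset.card_le_card hsub)
    rw [Finset.card_union_of_disjoint, Finset.card_product, Finset.card_image_of_injective _
      (fun a b hab => congrArg Prod.fst hab), Finset.card_sdiff_of_subset (Finset.subset_univ _),
      Finset.card_univ, Fintype.card_fin]
    rw [Finset.disjoint_left]
    intro ij h1 h2
    simp only [Finset.mem_product, Finset.mem_image, Finset.mem_sdiff] at h1 h2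
    obtain ⟨i, ⟨_, hi⟩, rfl⟩ := h2
    exact hi h1.1
  · simp only [hs]
    rw [Finset.sum_comm]
    simp only [geom_root (hf _), ← Finset.sum_filter, Finset.sum_const, nsmul_eq_mul]
    rw [mul_comm]
  · have hc : ∀ i, conj (f i) = (f i)⁻¹ := fun i =>
      (Complex.inv_eq_conj (norm_eq_one_of_pow_eq_one (orderOf_pos x).ne' (hf i))).symm
    have e : ∀ k, χ (x ^ k) * conj (χ (x ^ k)) = ∑ ij ∈ Finset.univ ×ˢ Finset.univ, (f ij.1 * (f ij.2)⁻¹) ^ k := by
      intro k
      rw [hs, map_sum, Finset.sum_mul_sum, Finset.sum_product]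
      refine Finset.sum_congr rfl fun i _ => Finset.sum_congr rfl fun j _ => ?_
      rw [map_pow, hc, mul_pow]
    simp only [e]
    rw [Finset.sum_comm]
    have g : ∀ ij : Fin l.length × Fin l.length, ∑ k ∈ Finset.range (orderOf x), (f ij.1 * (f ij.2)⁻¹) ^ k =
        if f ij.1 = f ij.2 then (orderOf x : ℂ) else 0 := by
      intro ij
      rw [geom_root (by rw [mul_pow, inv_pow, hf, hf, inv_one, one_mul])]
      have hne : f ij.2 ≠ 0 := by
        intro h0
        have := hf ij.2
        rw [h0, zero_pow (orderOf_pos x).ne'] at this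
        exact zero_ne_one this
      by_cases h1 : f ij.1 = f ij.2
      · rw [if_pos h1, if_pos (by rw [h1, mul_inv_cancel₀ hne])]
      · rw [if_neg h1, if_neg (fun h2 => h1 ?_)]
        field_simp at h2
        exact h2
    simp only [g, ← Finset.sum_filter, Finset.sum_const, nsmul_eq_mul]
    rw [mul_comm]

end CfsgLib.DetParity
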